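import Cfsg.Agent.H948.WfFi.Three
import Cfsg.Agent.H491.Rad3.FiTF
import Cfsg.Agent.H533.Wf.Inner
import Cfsg.Agent.H533.Wf.Kills2
import Cfsg.Agent.R08.TetBigInst

/-!
# `Fi24'`: the elements of order 3 commute with an involution of type `2B`, the row of S3826
-/

set_option autoImplicit false
set_option linter.unusedSectionVars false

namespace Cfsg.Agent.H948.WfFi.F24

universe u v

open Subgroup Cfsg Cfsg.Spor
open Cfsg.Agent.KFacts.FiTF Cfsg.Agent.KFacts.FiTF.Defs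
open Cfsg.Agent.R08.FiTwentyFour (L finite_Fi24)
open Cfsg.Agent.R08.TetTwo (IsTet Mate)
open Cfsg.Agent.H491.Rad3.FiTF (M mem_M)
open Cfsg.Agent.Fischer.Fi24Class (gen gen_sq)
open Cfsg.Agent.H533.Wf

/-- the products of four different commuting transpositions are conjugate to `z` -/
theorem tet_conj {s a b c d : Fi24} (h : IsTet L s a b c d) : ∃ g ∈ commutator Fi24, g * s * g⁻¹ = z := by
  obtain ⟨g, hg, h1, h2, h3, h4⟩ := Cfsg.Agent.R08.TetBig.quad Cfsg.Agent.R08.TetBigInst.hyp h Order.hT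
  refine ⟨g, hg, ?_⟩
  rw [← h.prod, ← Order.hT.prod, ← h1, ← h2, ← h3, ← h4]
  group

/-- conjugation of a tetrad -/
theorem tet_map {s a b c d : Fi24} (h : IsTet L s a b c d) (g : Fi24) :
    IsTet L (g * s * g⁻¹) (g * a * g⁻¹) (g * b * g⁻¹) (g * c * g⁻¹) (g * d * g⁻¹) where
  ha := Cfsg.Agent.R08.FiTwentyFour.conj h.ha g
  hb := Cfsg.Agent.R08.FiTwentyFour.conj h.hb g
  hc := Cfsg.Agent.R08.FiTwentyFour.conj h.hc g
  hd := Cfsg.Agent.R08.FiTwentyFour.conj h.hd g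
  ab := Cfsg.Agent.R08.TetBig.conj_comm h.ab
  ac := Cfsg.Agent.R08.TetBig.conj_comm h.ac
  ad := Cfsg.Agent.R08.TetBig.conj_comm h.ad
  bc := Cfsg.Agent.R08.TetBig.conj_comm h.bc
  bd := Cfsg.Agent.R08.TetBig.conj_comm h.bd
  cd := Cfsg.Agent.R08.TetBig.conj_comm h.cd
  nab := Cfsg.Agent.R08.TetBig.conj_ne h.nab
  nac := Cfsg.Agent.R08.TetBig.conj_ne h.nac
  nad := Cfsg.Agent.R08.TetBig.conj_ne h.nad
  nbc := Cfsg.Agent.R08.TetBig.conj_ne h.nbc
  nbd := Cfsg.Agent.R08.TetBig.conj_ne h.nbd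
  ncd := Cfsg.Agent.R08.TetBig.conj_ne h.ncd
  prod := by rw [← h.prod]; group

/-- **an element of order 3 fixing a transposition commutes with the product of a tetrad** -/
theorem exists_tet {x : Fi24} (hxc : x ∈ commutator Fi24) (hx : x ^ 3 = 1)
    (hd : ∃ d ∈ L, d * x = x * d) :
    ∃ s a b c d : Fi24, IsTet L s a b c d ∧ x * s = s * x := by
  obtain ⟨d, hd, hdx⟩ := hd
  obtain ⟨c, rfl⟩ := isConj_iff.1 (show IsConj (gen .l) d from hd)
  have hn : (commutator Fi24).Normal := inferInstance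
  have h1 : (c⁻¹ * x * c) * gen .l = gen .l * (c⁻¹ * x * c) := by
    calc (c⁻¹ * x * c) * gen .l = c⁻¹ * (x * (c * gen .l * c⁻¹)) * c := by group
      _ = c⁻¹ * ((c * gen .l * c⁻¹) * x) * c := by rw [hdx]
      _ = _ := by group
  have h2 : c⁻¹ * x * c ∈ commutator Fi24 := by
    have := hn.conj_mem x hxc c⁻¹
    rwa [inv_inv] at this
  set F := Cfsg.Agent.R08.FiTwentyFour.facts with hF
  obtain ⟨k, hk⟩ := (F.mem_range_iff _).2 ⟨h1, Cfsg.Agent.R08.FiTwentyFour.mem_commutator_iff.1 h2⟩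
  have hk3 : k ^ 3 = 1 := by
    apply F.phi_injective
    rw [map_pow, hk, map_one]
    have e : (c⁻¹ * x * c) ^ 3 = c⁻¹ * x ^ 3 * c := by
      simp only [pow_succ, pow_zero]; group
    rw [e, hx]
    group
  obtain ⟨s, ⟨a, ha, b, hb, e, he, n1, n2, n3, c1, c2, c3, rfl⟩, hs⟩ := triple hk3
  have hll : gen .l * gen .l = (1 : Fi24) := gen_sq _
  have hl : ∀ w : Fi23, F.phi w * gen .l = gen .l * F.phi w := F.phi_comm
  have hA := F.commuting_iff.2 ⟨a, ha, rfl⟩
  have hB := F.commuting_iff.2 ⟨b, hb, rfl⟩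
  have hE := F.commuting_iff.2 ⟨e, he, rfl⟩
  have hne : ∀ {u w : Fi23}, u ≠ w → gen .l * F.phi u ≠ gen .l * F.phi w := by
    intro u w h h'
    exact h (F.phi_injective (mul_left_cancel h'))
  have hcm : ∀ {u w : Fi23}, u * w = w * u →
      gen .l * F.phi u * (gen .l * F.phi w) = gen .l * F.phi w * (gen .l * F.phi u) := by
    intro u w h
    have e1 : ∀ u w : Fi23, gen .l * F.phi u * (gen .l * F.phi w) = F.phi (u * w) := by
      intro u w
      rw [mul_assoc, ← mul_assoc (F.phi u), hl, mul_assoc, ← mul_assoc, hll, one_mul, map_mul]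
    rw [e1, e1, h]
  have hT : IsTet L (F.phi (a * b * e)) (gen .l) (gen .l * F.phi a) (gen .l * F.phi b) (gen .l * F.phi e) :=
    { ha := Cfsg.Agent.R08.FiTwentyFour.gen_mem_L .l
      hb := hA.1
      hc := hB.1
      hd := hE.1
      ab := hA.2.2.symm
      ac := hB.2.2.symm
      ad := hE.2.2.symm
      bc := hcm c1
      bd := hcm c2
      cd := hcm c3
      nab := hA.2.1.symm
      nac := hB.2.1.symm
      nad := hE.2.1.symm
      nbc := hne n1
      nbd := hne n2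
      ncd := hne n3
      prod := by
        calc gen .l * (gen .l * F.phi a) * (gen .l * F.phi b) * (gen .l * F.phi e)
            = (gen .l * gen .l) * (F.phi a * gen .l) * F.phi b * (gen .l * F.phi e) := by group
          _ = (gen .l * F.phi a) * F.phi b * (gen .l * F.phi e) := by rw [hll, one_mul, hl]
          _ = gen .l * F.phi (a * b) * (gen .l * F.phi e) := by rw [map_mul]; group
          _ = gen .l * (F.phi (a * b) * gen .l) * F.phi e := by group
          _ = (gen .l * gen .l) * F.phi (a * b) * F.phi e := by rw [hl]; group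
          _ = F.phi (a * b * e) := by rw [hll, one_mul, ← map_mul] }
  refine ⟨_, _, _, _, _, tet_map hT c, ?_⟩
  have h3 : c⁻¹ * x * c * F.phi (a * b * e) = F.phi (a * b * e) * (c⁻¹ * x * c) := by
    rw [← hk, ← map_mul, ← map_mul, hs]
  calc x * (c * F.phi (a * b * e) * c⁻¹) = c * (c⁻¹ * x * c * F.phi (a * b * e)) * c⁻¹ := by group
    _ = c * (F.phi (a * b * e) * (c⁻¹ * x * c)) * c⁻¹ := by rw [h3]
    _ = _ := by group

/-- **the elements of order 3 of `Fi24'` are conjugate to elements of `C(z)`** -/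
theorem exists_conj_M {x : Spor.Fi24'} (hx : x ^ 3 = 1) : ∃ g : Spor.Fi24', g * x * g⁻¹ ∈ M := by
  have hx' : (x : Fi24) ^ 3 = 1 := congrArg Subtype.val hx
  have key : ∀ s g : Fi24, ∀ hg : g ∈ commutator Fi24, g * s * g⁻¹ = z → (x : Fi24) * s = s * x →
      (⟨g, hg⟩ : Spor.Fi24') * x * (⟨g, hg⟩ : Spor.Fi24')⁻¹ ∈ M := by
    intro s g hg hgs hxs
    rw [mem_M]
    show g * (x : Fi24) * g⁻¹ * z = z * (g * (x : Fi24) * g⁻¹)
    rw [← hgs]
    calc g * (x : Fi24) * g⁻¹ * (g * s * g⁻¹) = g * ((x : Fi24) * s) * g⁻¹ := by group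
      _ = g * (s * (x : Fi24)) * g⁻¹ := by rw [hxs]
      _ = _ := by group
  by_cases hd : ∃ d ∈ L, d * (x : Fi24) = (x : Fi24) * d
  · obtain ⟨s, a, b, c, d, hT, hxs⟩ := exists_tet x.2 hx' hd
    obtain ⟨g, hg, hgs⟩ := tet_conj hT
    exact ⟨⟨g, hg⟩, key s g hg hgs hxs⟩
  · push Not at hd
    obtain ⟨s, hs, hxs, hs2, hs1⟩ := Cfsg.Agent.H844.NB.exists_inv_of_not hx' hd
    obtain ⟨g, hg, hgs⟩ := Cfsg.Agent.LThreeFi24.EmptyTwo.invol_aux hx' hd hs hs2 hs1 hxs.symm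
    exact ⟨⟨g, hg⟩, key s g hg hgs hxs⟩

/-- `R` inside `Fi24'` -/
def RK : Subgroup Spor.Fi24' := R.subgroupOf (commutator Fi24)

theorem mem_RK {x : Spor.Fi24'} : x ∈ RK ↔ (x : Fi24) ∈ R := Iff.rfl

theorem mem_normalizer {x : Spor.Fi24'} (hx : x ∈ M) : x ∈ normalizer (RK : Set Spor.Fi24') := by
  have h1 := mem_M.1 hx
  rw [mem_normalizer_iff]
  intro r
  constructor
  · intro hr
    exact frame.norm _ h1 _ hr
  · intro hr
    have h2 : ((x⁻¹ : Spor.Fi24') : Fi24) * z = z * ((x⁻¹ : Spor.Fi24') : Fi24) := mem_M.1 (M.inv_mem hx)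
    have h3 := frame.norm _ h2 _ hr
    have e : ((x⁻¹ : Spor.Fi24') : Fi24) * ((x * r * x⁻¹ : Spor.Fi24') : Fi24) *
        ((x⁻¹ : Spor.Fi24') : Fi24)⁻¹ = (r : Fi24) := by
      push_cast; group
    show (r : Fi24) ∈ R
    rw [← e]
    exact h3

theorem card_RK : Nat.card RK = 8192 := Abs.card_RK frame

/-- an element of order 3 of `M` does not centralise `R` modulo `z` -/
theorem false_of_triv {x : Spor.Fi24'} (ho : orderOf x = 3)
    (h : ∀ r ∈ R, (x : Fi24) * r * (x : Fi24)⁻¹ = r ∨ (x : Fi24) * r * (x : Fi24)⁻¹ = r * z)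
    (hz : (x : Fi24) * z = z * (x : Fi24)) : False := by
  have hx3 : x ^ 3 = 1 := by rw [← ho, pow_orderOf_eq_one]
  have hx3' : (x : Fi24) ^ 3 = 1 := congrArg Subtype.val hx3
  have hzz : z * z = 1 := frame.zz
  have h2 : ∀ r ∈ R, (x : Fi24) * (x : Fi24) * r = r * ((x : Fi24) * (x : Fi24)) := by
    intro r hr
    rcases h r hr with h1 | h1
    · have h3 : (x : Fi24) * r = r * x := mul_inv_eq_iff_eq_mul.1 h1
      rw [mul_assoc, h3, ← mul_assoc, h3, mul_assoc]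
    · have h3 : (x : Fi24) * r = r * z * x := mul_inv_eq_iff_eq_mul.1 h1
      calc (x : Fi24) * (x : Fi24) * r = (x : Fi24) * (r * z * x) := by rw [mul_assoc, h3]
        _ = ((x : Fi24) * r) * z * x := by group
        _ = r * z * (x * z) * x := by rw [h3]; group
        _ = r * (z * z) * (x * x) := by rw [hz]; group
        _ = r * ((x : Fi24) * (x : Fi24)) := by rw [hzz, mul_one]
  rcases frame.cent _ h2 with h3 | h3
  · have : (x : Fi24) = 1 := by
      calc (x : Fi24) = (x : Fi24) ^ 3 * ((x : Fi24) * x)⁻¹ := by group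
        _ = 1 := by rw [hx3', h3]; group
    have h4 : x = 1 := Subtype.ext this
    rw [h4, orderOf_one] at ho
    norm_num at ho
  · apply frame.z1
    have h4 : ((x : Fi24) * x) ^ 3 = 1 := by
      calc ((x : Fi24) * x) ^ 3 = ((x : Fi24) ^ 3) * ((x : Fi24) ^ 3) := by
            simp only [pow_succ, pow_zero]; group
        _ = 1 := by rw [hx3', one_mul]
    rw [h3] at h4
    calc z = z ^ 3 * (z * z)⁻¹ := by group
      _ = 1 := by rw [h4, hzz]; group

/-- **the configuration inside `Fi24'`** -/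
theorem irow : IRow 3 Spor.Fi24' := by
  intro C D h
  have hcard : Nat.card Spor.Fi24' = 1255205709190661721292800 := Cfsg.Agent.R08.FiTwentyFour.isFi24'.2
  have hfin : Finite Spor.Fi24' := Nat.finite_of_card_ne_zero (by rw [hcard]; norm_num)
  have : Fact (Nat.Prime 3) := ⟨Nat.prime_three⟩
  obtain ⟨c0, hc0⟩ := h.neC
  obtain ⟨d0, hd0⟩ := h.neD
  obtain ⟨g, hg⟩ := exists_conj_M (x := c0) (by rw [← h.ordC c0 hc0, pow_orderOf_eq_one])
  obtain ⟨k, hk⟩ := exists_conj_M (x := d0) (by rw [← h.ordD d0 hd0, pow_orderOf_eq_one])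
  have hcC : g * c0 * g⁻¹ ∈ C := h.conjC g c0 hc0
  have hdD : k * d0 * k⁻¹ ∈ D := h.conjD k d0 hd0
  generalize g * c0 * g⁻¹ = c at hg hcC
  generalize k * d0 * k⁻¹ = d at hk hdD
  have hcop : (Nat.card RK).Coprime 3 := by rw [card_RK]; norm_num
  let B : Subgroup Fi24 := R ⊓ centralizer {x : Fi24 | ∃ c : Spor.Fi24', c ∈ C ∧ c ∈ M ∧ (c : Fi24) = x}
  have hB : ∀ g ∈ E, ∀ b ∈ B, g * b * g⁻¹ ∈ B := by
    rintro e he b ⟨hb, hb'⟩
    have hez := frame.Ez e he
    refine mem_inf.2 ⟨frame.norm e hez b hb, mem_centralizer_iff.2 ?_⟩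
    rintro _ ⟨c', hc', hc'M, rfl⟩
    set e' : Spor.Fi24' := ⟨e, frame.EK he⟩ with he'
    have heM : e' ∈ M := mem_M.2 hez
    have h1 : (e⁻¹ * (c' : Fi24) * e) * b = b * (e⁻¹ * (c' : Fi24) * e) := by
      refine mem_centralizer_iff.1 hb' _ ⟨e'⁻¹ * c' * e', h.toHyp.conjC' e' hc', M.mul_mem (M.mul_mem (M.inv_mem heM) hc'M) heM, rfl⟩
    calc (c' : Fi24) * (e * b * e⁻¹) = e * ((e⁻¹ * (c' : Fi24) * e) * b) * e⁻¹ := by group
      _ = e * (b * (e⁻¹ * (c' : Fi24) * e)) * e⁻¹ := by rw [h1]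
      _ = _ := by group
  rcases frame.irr B inf_le_left hB with h1 | h1
  · refine false_of_triv (h.ordD d hdD) ?_ (mem_M.1 hk)
    intro r hr
    set r' : Spor.Fi24' := ⟨r, frame.EK (frame.RE hr)⟩ with hr'
    have h2 : (r'⁻¹ * (d * r' * d⁻¹) : Spor.Fi24') ∈ RK :=
      RK.mul_mem (RK.inv_mem (show r' ∈ RK from hr))
        ((mem_normalizer_iff.mp (mem_normalizer hk) r').mp (show r' ∈ RK from hr))
    have h3 : ((r'⁻¹ * (d * r' * d⁻¹) : Spor.Fi24') : Fi24) ∈ B := by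
      refine mem_inf.2 ⟨h2, mem_centralizer_iff.2 ?_⟩
      rintro _ ⟨c', hc', hc'M, rfl⟩
      exact congrArg Subtype.val (h.commute_comm hcop hc' hdD (mem_normalizer hc'M) (mem_normalizer hk)
        (show r' ∈ RK from hr)).eq
    have e : ((r'⁻¹ * (d * r' * d⁻¹) : Spor.Fi24') : Fi24) = r⁻¹ * ((d : Fi24) * r * (d : Fi24)⁻¹) := rfl
    rw [e] at h3
    rcases h1 _ h3 with h4 | h4
    · left
      exact (inv_mul_eq_one.1 h4).symm
    · right
      rw [← h4]
      group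
  · refine false_of_triv (h.ordC c hcC) (fun r hr => Or.inl ?_) (mem_M.1 hg)
    rw [← h1] at hr
    have h2 := mem_centralizer_iff.1 hr.2 (c : Fi24) ⟨c, hcC, hg, rfl⟩
    rw [h2, mul_inv_cancel_right]

/-- **the row** -/
theorem arow : ARow 3 Spor.Fi24' := by
  have hcard : Nat.card Spor.Fi24' = 1255205709190661721292800 := Cfsg.Agent.R08.FiTwentyFour.isFi24'.2
  have hfin : Finite Spor.Fi24' := Nat.finite_of_card_ne_zero (by rw [hcard]; norm_num)
  refine ARow.of_inner (fun a ha => ?_) irow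
  obtain ⟨g, hg⟩ := Cfsg.Agent.H256.OddInner.fi24' (K := Spor.Fi24') ⟨MulEquiv.refl _⟩ a
    (by rw [ha]; decide)
  exact ⟨g, hg.symm⟩

end Cfsg.Agent.H948.WfFi.F24

namespace Cfsg.Agent.H948.WfFi

universe u v

open Cfsg Cfsg.Agent.H533.Wf

/-- **the row `Fi24'` of S3826** -/
theorem wfrow_fi24' {K : Type v} [Group K] (h : Cfsg.Spor.IsoFi24' K) : WfRow.{u, v} 3 K := by
  obtain ⟨e⟩ := h
  rintro G _ _ S C D h ⟨f⟩
  exact WfRow.of_arow.{u, 0} F24.arow G S C D h ⟨f.trans e⟩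

end Cfsg.Agent.H948.WfFi
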